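import Groth.Agent.H69.PowPert.Valuation
import Groth.Agent.Lib.Dim.Basic
import Mathlib.RingTheory.LocalRing.ResidueField.Fiber
import Mathlib.RingTheory.AlgebraicIndependent.TranscendenceBasis
import Mathlib.RingTheory.KrullDimension.NonZeroDivisors
import Mathlib.RingTheory.FiniteStability

/-!
# Fibre dimensions over `R[X]` read in fields under `S`
-/

set_option autoImplicit false
set_option linter.style.haveILetI false

set_option backward.isDefEq.respectTransparency false
set_option synthInstance.maxHeartbeats 100000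

universe u

open Polynomial TensorProduct

namespace Groth.Agent.H69.PowPert

variable {R S : Type u} [CommRing R] [CommRing S] [Algebra R S]

/-- In every field under `S`, some `≤ d` generators and `y` span all algebraically. -/
def Spanned (G : Finset S) (d : ℕ) (y : S) {K : Type u} [Field K] [Algebra R K] (ψ : S →ₐ[R] K) :
    Prop :=
  ∃ T : Finset S, T.card ≤ d ∧
    ∀ g ∈ G, IsAlgebraic (Algebra.adjoin R (ψ '' insert y (T : Set S))) (ψ g)

/-- A bound on the dimension from the dimensions of the quotients by primes. -/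
theorem ringKrullDim_le_of_forall {A : Type u} [CommRing A] (c : WithBot ℕ∞)
    (h : ∀ P : Ideal A, P.IsPrime → ringKrullDim (A ⧸ P) ≤ c) : ringKrullDim A ≤ c := by
  refine iSup_le fun l => le_trans ?_ (h l.head.asIdeal l.head.isPrime)
  rw [ringKrullDim_quotient]
  exact Order.LTSeries.length_le_krullDim (LTSeries.mk l.length
    (fun i => (⟨l i, show l.head.asIdeal ≤ (l i).asIdeal from l.monotone (Fin.zero_le i)⟩ :
      PrimeSpectrum.zeroLocus (R := A) l.head.asIdeal))
    fun i j hij => l.strictMono hij)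

/-- Algebraicity over what `T` generates over a field, moved to a smaller subring. -/
theorem isAlgebraic_over_base {K : Type u} [Field K] [Algebra R K] {k : Type u} [Field k]
    [Algebra k K] {t : Set K} (hk : ∀ c : k, IsAlgebraic (Algebra.adjoin R t) (algebraMap k K c))
    {T : Set K} (hT : T ⊆ t) {z : K} (hz : IsAlgebraic (Algebra.adjoin k T) z) :
    IsAlgebraic (Algebra.adjoin R t) z := by
  let Q := Subalgebra.algebraicClosure (Algebra.adjoin R t) K
  have hle : ∀ x ∈ Algebra.adjoin k T, x ∈ Q := by
    intro x hx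
    induction hx using Algebra.adjoin_induction with
    | mem x hx => exact isAlgebraic_algebraMap (⟨x, Algebra.subset_adjoin (hT hx)⟩ :
        Algebra.adjoin R t)
    | algebraMap c => exact hk c
    | add x y _ _ hx hy => exact Q.add_mem hx hy
    | mul x y _ _ hx hy => exact Q.mul_mem hx hy
  exact IsAlgebraic.restrictScalars _ (isAlgebraic_mono (B := Q) hle hz)

/-- Some of a set of generators of a domain over a field form a transcendence basis. -/
theorem exists_basis {k A : Type u} [Field k] [CommRing A] [IsDomain A] [Algebra k A] (s : Set A)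
    (hgen : Algebra.adjoin k s = ⊤) :
    ∃ t : Set A, t ⊆ s ∧ Cardinal.mk t = Algebra.trdeg k A ∧
      ∀ a : A, IsAlgebraic (Algebra.adjoin k t) a := by
  haveI : Algebra.IsAlgebraic (Algebra.adjoin k s) A :=
    ⟨fun x => isAlgebraic_algebraMap (⟨x, hgen ▸ Algebra.mem_top⟩ : Algebra.adjoin k s)⟩
  obtain ⟨t, hts, ht⟩ := exists_isTranscendenceBasis_subset (R := k) s
  refine ⟨t, hts, ht.cardinalMk_eq_trdeg, fun a => ?_⟩
  have := ht.isAlgebraic
  rw [Subtype.range_coe] at this
  exact Algebra.IsAlgebraic.isAlgebraic a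

variable {G : Finset S} (hG : Algebra.adjoin R (G : Set S) = ⊤) (d : ℕ) (y : S)

include hG in
/-- From fibre dimensions to spanning. -/
theorem spanned_of_dim (h : ∀ P : PrimeSpectrum R[X],
      letI := (Polynomial.aeval (R := R) y).toRingHom.toAlgebra
      ringKrullDim (P.asIdeal.Fiber S) ≤ d)
    {K : Type u} [Field K] [Algebra R K] (ψ : S →ₐ[R] K) : Spanned G d y ψ := by
  classical
  letI := (Polynomial.aeval (R := R) y).toRingHom.toAlgebra
  haveI : IsScalarTower R R[X] S := IsScalarTower.of_algebraMap_eq fun r => (aeval_C (x := y) r).symm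
  let f : R[X] →+* K := ψ.toRingHom.comp (algebraMap R[X] S)
  have hf : ∀ p, f p = aeval (ψ y) p := fun p => (aeval_algHom_apply ψ y p).symm
  let P : PrimeSpectrum R[X] := ⟨RingHom.ker f, RingHom.ker_isPrime f⟩
  haveI : P.asIdeal.IsPrime := P.isPrime
  let k := P.asIdeal.ResidueField
  let ι : k →+* K := Ideal.ResidueField.lift P.asIdeal f le_rfl fun x hx =>
    isUnit_iff_ne_zero.2 hx
  letI : Algebra k K := ι.toAlgebra
  letI : Algebra R[X] K := f.toAlgebra
  haveI : IsScalarTower R[X] k K := IsScalarTower.of_algebraMap_eq fun p =>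
    (Ideal.ResidueField.lift_algebraMap P.asIdeal f _ _ p).symm
  let ψ' : S →ₐ[R[X]] K := { ψ.toRingHom with commutes' := fun p => rfl }
  let χ : P.asIdeal.Fiber S →ₐ[k] K :=
    Algebra.TensorProduct.lift (Algebra.ofId k K) ψ' fun _ _ => mul_comm _ _
  have hχ : ∀ s, χ (1 ⊗ₜ s) = ψ s := fun s =>
    ((Algebra.TensorProduct.lift_tmul _ _ _ _ _).trans (by rw [map_one, one_mul]) : _ = ψ' s)
  haveI : Algebra.FiniteType R S := ⟨⟨G, hG⟩⟩
  haveI : Algebra.FiniteType R[X] S := Algebra.FiniteType.of_restrictScalars_finiteType R R[X] S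
  let J := RingHom.ker χ
  haveI : J.IsPrime := RingHom.ker_isPrime χ
  let A := P.asIdeal.Fiber S ⧸ J
  let mk : S → A := fun s => Ideal.Quotient.mk J (1 ⊗ₜ s)
  have hgen : Algebra.adjoin k (mk '' (G : Set S)) = ⊤ := by
    refine top_le_iff.1 fun x _ => ?_
    obtain ⟨x, rfl⟩ := Ideal.Quotient.mk_surjective x
    rename_i hx
    clear hx
    induction x using TensorProduct.induction_on with
    | zero => rw [map_zero]; exact zero_mem _
    | add a b ha hb => rw [map_add]; exact add_mem ha hb
    | tmul c s =>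
      have hc : (c ⊗ₜ[R[X]] s : P.asIdeal.Fiber S) = c • (1 ⊗ₜ[R[X]] s) := by
        rw [TensorProduct.smul_tmul', smul_eq_mul, mul_one]
      rw [hc]
      show (Ideal.Quotient.mkₐ k J) (c • _) ∈ _
      rw [map_smul]
      refine Subalgebra.smul_mem _ ?_ c
      let φ : S →ₐ[R] A :=
        ((Ideal.Quotient.mkₐ R[X] J).comp Algebra.TensorProduct.includeRight).restrictScalars R
      have hs : s ∈ Algebra.adjoin R (G : Set S) := hG ▸ Algebra.mem_top
      show φ s ∈ _
      clear hc
      induction hs using Algebra.adjoin_induction with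
      | mem g hg => exact Algebra.subset_adjoin ⟨g, hg, rfl⟩
      | algebraMap r =>
        rw [AlgHom.commutes, IsScalarTower.algebraMap_apply R k A]
        exact Subalgebra.algebraMap_mem _ _
      | add a b _ _ ha hb => rw [map_add]; exact add_mem ha hb
      | mul a b _ _ ha hb => rw [map_mul]; exact mul_mem ha hb
  haveI : Algebra.FiniteType k A :=
    Algebra.FiniteType.of_surjective (Ideal.Quotient.mkₐ k J) Ideal.Quotient.mk_surjective
  have htr : Algebra.trdeg k A ≤ (d : Cardinal) := by
    rw [Groth.Agent.Lib.Dim.Basic.trdeg_eq_trdegNat]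
    have h1 := (ringKrullDim_quotient_le J).trans (h P)
    replace h1 := (Groth.Agent.Lib.Dim.Basic.ringKrullDim_eq_trdegNat k A).symm.trans_le h1
    exact_mod_cast h1
  haveI : IsDomain A := Ideal.Quotient.isDomain J
  obtain ⟨t, htG, hcard, halgt⟩ := exists_basis (k := k) (A := A) (mk '' (G : Set S)) (by convert hgen using 1)
  obtain ⟨T, hTG, hTinj, hTt⟩ : ∃ T : Set S, T ⊆ G ∧ Set.InjOn mk T ∧ mk '' T = t := by
    obtain ⟨T, hT, hinj⟩ := (Set.SurjOn.exists_bijOn_subset (f := mk) (s := (G : Set S)) htG)
    exact ⟨T, hT, hinj.injOn, hinj.image_eq⟩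
  have hTfin : T.Finite := G.finite_toSet.subset hTG
  refine ⟨hTfin.toFinset, ?_, fun g hg => ?_⟩
  · have h2 := hcard.le.trans htr
    rw [← hTt, Cardinal.mk_image_eq_of_injOn _ _ hTinj,
      show Cardinal.mk T = (hTfin.toFinset.card : Cardinal) by
        simpa using (Cardinal.mk_coe_finset (s := hTfin.toFinset))] at h2
    exact_mod_cast h2
  · let χ' : A →ₐ[k] K := Ideal.Quotient.liftₐ J χ fun x hx => hx
    have hχ'i : Function.Injective χ' := RingHom.kerLift_injective χ.toRingHom
    have hχ' : ∀ s, χ' (mk s) = ψ s := fun s => hχ s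
    have hz : IsAlgebraic (Algebra.adjoin k (ψ '' T)) (ψ g) := by
      obtain ⟨p, hp, hpz⟩ := halgt (mk g)
      have himg : χ' '' t = ψ '' T := by
        rw [← hTt, Set.image_image]; exact Set.image_congr fun s _ => hχ' s
      let e : Algebra.adjoin k t →ₐ[k] Algebra.adjoin k (ψ '' T) :=
        (χ'.comp (Algebra.adjoin k t).val).codRestrict _ fun x => by
          rw [← himg, ← AlgHom.map_adjoin]; exact ⟨x, x.2, rfl⟩
      have hei : Function.Injective e := fun a b hab =>
        Subtype.ext (hχ'i (congrArg Subtype.val hab))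
      refine ⟨p.map e.toRingHom, (Polynomial.map_ne_zero_iff hei).2 hp, ?_⟩
      rw [← hχ' g, aeval_def, eval₂_map]
      replace hpz : Polynomial.eval₂ (Algebra.adjoin k t).val.toRingHom (mk g) p = 0 := hpz
      have hev := congrArg χ'.toRingHom hpz
      rw [map_zero, Polynomial.hom_eval₂] at hev
      exact hev
    refine isAlgebraic_over_base (fun c => ?_) ?_ hz
    · obtain ⟨num, den, -, rfl⟩ := IsFractionRing.div_surjective (R[X] ⧸ P.asIdeal) c
      rw [map_div₀, div_eq_mul_inv]
      have hmem : ∀ q : R[X] ⧸ P.asIdeal, algebraMap k K (algebraMap _ k q) ∈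
          Algebra.adjoin R (ψ '' insert y (hTfin.toFinset : Set S)) := fun q => by
        obtain ⟨p, rfl⟩ := Ideal.Quotient.mk_surjective q
        rw [← Ideal.Quotient.algebraMap_eq, ← IsScalarTower.algebraMap_apply R[X] (R[X] ⧸ P.asIdeal) k,
          ← IsScalarTower.algebraMap_apply R[X] k K]
        show f p ∈ _
        rw [hf]
        refine SetLike.le_def.1 (Algebra.adjoin_mono (s := {ψ y}) ?_)
          (by rw [Algebra.adjoin_singleton_eq_range_aeval]; exact ⟨p, rfl⟩)
        exact Set.singleton_subset_iff.2 ⟨y, Set.mem_insert _ _, rfl⟩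
      exact (isAlgebraic_algebraMap (⟨_, hmem num⟩ : Algebra.adjoin R _)).mul
        (isAlgebraic_algebraMap (⟨_, hmem den⟩ : Algebra.adjoin R _)).inv
    · exact Set.image_mono ((Set.subset_insert _ _).trans' hTfin.coe_toFinset.ge)

include hG in
/-- From spanning to fibre dimensions. -/
theorem dim_of_spanned
    (h : ∀ (K : Type u) [Field K] [Algebra R K] (ψ : S →ₐ[R] K), Spanned G d y ψ)
    (P : PrimeSpectrum R[X]) :
    letI := (Polynomial.aeval (R := R) y).toRingHom.toAlgebra
    ringKrullDim (P.asIdeal.Fiber S) ≤ d := by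
  letI := (Polynomial.aeval (R := R) y).toRingHom.toAlgebra
  haveI : IsScalarTower R R[X] S := IsScalarTower.of_algebraMap_eq fun r => (aeval_C (x := y) r).symm
  haveI : Algebra.FiniteType R S := ⟨⟨G, hG⟩⟩
  haveI : Algebra.FiniteType R[X] S := Algebra.FiniteType.of_restrictScalars_finiteType R R[X] S
  haveI : P.asIdeal.IsPrime := P.isPrime
  let k := P.asIdeal.ResidueField
  refine ringKrullDim_le_of_forall _ fun J hJ => ?_
  let A := P.asIdeal.Fiber S ⧸ J
  let K := FractionRing A
  let π : P.asIdeal.Fiber S →ₐ[k] K := (IsScalarTower.toAlgHom k A K).comp (Ideal.Quotient.mkₐ k J)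
  let ψ : S →ₐ[R] K :=
    (π.restrictScalars R).comp ((Algebra.TensorProduct.includeRight (R := R[X]) (A := k)).restrictScalars R)
  obtain ⟨T, hT, halg⟩ := h K ψ
  let A1 := Algebra.adjoin k (ψ '' (T : Set S))
  have hy : ψ y = algebraMap k K (algebraMap R[X] k X) := by
    show π (1 ⊗ₜ y) = _
    rw [← π.commutes, Algebra.TensorProduct.algebraMap_apply, Algebra.algebraMap_self_apply,
      Algebra.algebraMap_eq_smul_one X, smul_tmul]
    congr 2
    rw [← Algebra.algebraMap_eq_smul_one]
    exact (aeval_X (R := R) y).symm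
  have hle : ∀ x ∈ Algebra.adjoin R (ψ '' insert y (T : Set S)), x ∈ A1 := by
    intro x hx
    induction hx using Algebra.adjoin_induction with
    | mem x hx =>
      obtain ⟨s, rfl | hs, rfl⟩ := hx
      · rw [hy]; exact A1.algebraMap_mem _
      · exact Algebra.subset_adjoin ⟨s, hs, rfl⟩
    | algebraMap r => rw [IsScalarTower.algebraMap_apply R k K]; exact A1.algebraMap_mem _
    | add x z _ _ hx hz => exact add_mem hx hz
    | mul x z _ _ hx hz => exact mul_mem hx hz
  have hgens : ∀ s : S, IsAlgebraic A1 (ψ s) := by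
    intro s
    have hs : s ∈ Algebra.adjoin R (G : Set S) := hG ▸ Algebra.mem_top
    induction hs using Algebra.adjoin_induction with
    | mem g hg => exact isAlgebraic_mono hle (halg g hg)
    | algebraMap r =>
      rw [AlgHom.commutes, IsScalarTower.algebraMap_apply R A1 K]; exact isAlgebraic_algebraMap _
    | add a b _ _ ha hb => rw [map_add]; exact ha.add hb
    | mul a b _ _ ha hb => rw [map_mul]; exact ha.mul hb
  have hπ : ∀ z, IsAlgebraic A1 (π z) := by
    intro z
    induction z using TensorProduct.induction_on with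
    | zero => rw [map_zero]; exact isAlgebraic_zero
    | add a b ha hb => rw [map_add]; exact ha.add hb
    | tmul c s =>
      have hc : (c ⊗ₜ[R[X]] s : P.asIdeal.Fiber S) = c • (1 ⊗ₜ[R[X]] s) := by
        rw [TensorProduct.smul_tmul', smul_eq_mul, mul_one]
      rw [hc, map_smul, Algebra.smul_def]
      exact (isAlgebraic_algebraMap (⟨_, A1.algebraMap_mem c⟩ : A1)).mul (hgens s)
  haveI : Algebra.IsAlgebraic A1 K := ⟨fun z => by
    obtain ⟨num, den, -, rfl⟩ := IsFractionRing.div_surjective A z
    obtain ⟨num, rfl⟩ := Ideal.Quotient.mk_surjective num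
    obtain ⟨den, rfl⟩ := Ideal.Quotient.mk_surjective den
    rw [div_eq_mul_inv]
    exact (hπ num).mul (hπ den).inv⟩
  haveI : Algebra.FiniteType k A :=
    Algebra.FiniteType.of_surjective (Ideal.Quotient.mkₐ k J) Ideal.Quotient.mk_surjective
  have h1 : Algebra.trdeg k A ≤ (d : Cardinal) :=
    ((trdeg_le_of_injective (IsScalarTower.toAlgHom k A K) (IsFractionRing.injective A K)).trans
      (Algebra.IsAlgebraic.trdeg_le_cardinalMk k (ψ '' (T : Set S)))).trans
      (Cardinal.mk_image_le.trans ((Cardinal.mk_coe_finset (s := T)).le.trans (by exact_mod_cast hT)))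
  rw [Groth.Agent.Lib.Dim.Basic.trdeg_eq_trdegNat] at h1
  rw [Groth.Agent.Lib.Dim.Basic.ringKrullDim_eq_trdegNat k]
  exact_mod_cast h1

end Groth.Agent.H69.PowPert
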