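import Groth.Agent.H69.PowPert.FibreTrdeg
import Mathlib.Order.Filter.Ultrafilter.Basic

/-!
# Fibre dimensions over the affine line are stable under `a ↦ a ^ n + b`
-/

set_option autoImplicit false
set_option linter.style.haveILetI false

universe u

open Polynomial

namespace Groth.Agent.H69.PowPert

variable {R S : Type u} [CommRing R] [CommRing S] [Algebra R S]

/-- An algebraicity relation in `K` with coefficients lifted to `S`. -/
theorem exists_witness {K : Type u} [Field K] [Algebra R K] (ψ : S →ₐ[R] K) (U : Set S) (g : S)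
    (h : IsAlgebraic (Algebra.adjoin R (ψ '' U)) (ψ g)) :
    ∃ p : S[X], (∀ j, p.coeff j ∈ Algebra.adjoin R U) ∧ (∃ j, ψ (p.coeff j) ≠ 0) ∧
      ψ (p.eval g) = 0 := by
  obtain ⟨q, hq, hqg⟩ := h
  let π : Algebra.adjoin R U →ₐ[R] Algebra.adjoin R (ψ '' U) :=
    (ψ.comp (Algebra.adjoin R U).val).codRestrict _ fun x => by
      rw [← AlgHom.map_adjoin]; exact ⟨x, x.2, rfl⟩
  have hπ : Function.Surjective π.toRingHom := fun ⟨z, hz⟩ => by
    rw [← AlgHom.map_adjoin] at hz
    obtain ⟨x, hx, rfl⟩ := hz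
    exact ⟨⟨x, hx⟩, rfl⟩
  obtain ⟨p₀, rfl⟩ := Polynomial.map_surjective π.toRingHom hπ q
  refine ⟨p₀.map (Algebra.adjoin R U).val.toRingHom, fun j => ?_, ?_, ?_⟩
  · rw [coeff_map]; exact (p₀.coeff j).2
  · obtain ⟨j, hj⟩ : ∃ j, (p₀.map π.toRingHom).coeff j ≠ 0 := by
      by_contra! h0
      exact hq (Polynomial.ext fun j => by rw [h0 j, coeff_zero])
    refine ⟨j, ?_⟩
    rw [coeff_map] at hj ⊢
    exact fun h0 => hj (Subtype.ext h0)
  · rw [eval_map, ← AlgHom.coe_toRingHom, hom_eval₂]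
    rw [aeval_def, eval₂_map] at hqg
    exact hqg

/-- A relation which holds in `K` is one of algebraicity as soon as it is nontrivial. -/
theorem isAlgebraic_of_witness {K : Type u} [Field K] [Algebra R K] (ψ : S →ₐ[R] K) (U : Set S)
    (g : S) (p : S[X]) (hp : ∀ j, p.coeff j ∈ Algebra.adjoin R U) (hne : ∃ j, ψ (p.coeff j) ≠ 0)
    (h0 : ψ (p.eval g) = 0) : IsAlgebraic (Algebra.adjoin R (ψ '' U)) (ψ g) := by
  let A := Algebra.adjoin R (ψ '' U)
  have hm : ∀ j, (p.map ψ.toRingHom).coeff j ∈ A.toSubring := fun j => by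
    rw [coeff_map]
    show ψ (p.coeff j) ∈ A
    rw [show A = (Algebra.adjoin R U).map ψ from (AlgHom.map_adjoin ψ U).symm]
    exact ⟨_, hp j, rfl⟩
  have hsub : (↑(p.map ψ.toRingHom).coeffs : Set K) ⊆ A.toSubring := fun x hx => by
    obtain ⟨j, -, rfl⟩ := mem_coeffs_iff.1 hx
    exact hm j
  refine ⟨(p.map ψ.toRingHom).toSubring A.toSubring hsub, fun hz => ?_, ?_⟩
  · obtain ⟨j, hj⟩ := hne
    refine hj ?_
    have h1 := congrArg (fun q : Polynomial A.toSubring => ((q.coeff j : A.toSubring) : K)) hz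
    simpa using h1
  · rw [aeval_def, ← eval_map]
    have h2 : ((p.map ψ.toRingHom).toSubring A.toSubring hsub).map (algebraMap A.toSubring K) =
        p.map ψ.toRingHom := Polynomial.ext fun j => by
      rw [coeff_map]; exact coeff_toSubring _ _ _
    refine (congrArg (eval (ψ g)) h2).trans ?_
    rw [eval_map]
    exact (eval₂_at_apply ψ.toRingHom g).trans h0

/-- The step in one field: below the degree bound the power perturbation keeps the spanning. -/
theorem spanned_step {K : Type u} [Field K] [Algebra R K] (ψ : S →ₐ[R] K) (G : Finset S) {d : ℕ}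
    (a b : S) (T : Finset S) (hT : T.card ≤ d)
    (hG : ∀ g ∈ G, IsAlgebraic (Algebra.adjoin R (ψ '' insert a (T : Set S))) (ψ g))
    (pb : S[X]) (hne : ∃ j, ψ (pb.coeff j) ≠ 0) (h0 : ψ (pb.eval b) = 0) {n E : ℕ} (hn : E < n)
    (hcoef : ∀ j, ∃ q : S[X], (∀ k, q.coeff k ∈ Algebra.adjoin R (T : Set S)) ∧ q.natDegree ≤ E ∧
      pb.coeff j = q.eval a) :
    Spanned G d (a ^ n + b) ψ := by
  refine ⟨T, hT, fun g hg => ?_⟩
  set t : Set K := ψ '' insert (a ^ n + b) (T : Set S)
  by_cases ha : IsAlgebraic (Algebra.adjoin R t) (ψ a)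
  · refine IsAlgebraic.adjoin_of_forall_isAlgebraic (fun x hx => ?_) (hG g hg)
    obtain ⟨⟨s, rfl | hs, rfl⟩, hxt⟩ := hx
    · exact ha
    · exact absurd ⟨s, Set.mem_insert_of_mem _ hs, rfl⟩ hxt
  exfalso
  let Q := Subalgebra.algebraicClosure (Algebra.adjoin R t) K
  let L := Subfield.closure (Algebra.adjoin R t : Set K)
  have hLQ : ∀ x ∈ L, x ∈ Q := by
    intro x hx
    induction hx using Subfield.closure_induction with
    | mem x hx => exact isAlgebraic_algebraMap (⟨x, hx⟩ : Algebra.adjoin R t)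
    | one => exact Q.one_mem
    | add x y _ _ hx hy => exact Q.add_mem hx hy
    | neg x _ hx => exact Q.neg_mem hx
    | inv x _ hx => exact IsAlgebraic.inv hx
    | mul x y _ _ hx hy => exact Q.mul_mem hx hy
  have hint : ψ a ∉ (integralClosure (Subring.closure (L : Set K)) K).toSubring := fun h => ha
    (IsAlgebraic.restrictScalars _ (isAlgebraic_mono (B := Q) (fun x hx => hLQ x
      (Subring.closure_le (t := L.toSubring).2 (fun y hy => hy) hx)) (IsIntegral.isAlgebraic h)))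
  rw [← iInf_valuationSubring_superset, Subring.mem_iInf] at hint
  push Not at hint
  obtain ⟨⟨V, hV⟩, hα⟩ := hint
  have hTL : ∀ z ∈ Algebra.adjoin R (T : Set S), ψ z ∈ L := fun z hz => by
    refine Subfield.subset_closure ?_
    refine Algebra.adjoin_mono (Set.image_mono (Set.subset_insert _ _)) ?_
    rw [← AlgHom.map_adjoin]
    exact ⟨z, hz, rfl⟩
  refine not_mem_of_relation V hV hα (α := ψ a) (β := ψ b) hn (pb.map ψ.toRingHom) ?_ (fun j => ?_)
    ?_ (Subfield.subset_closure (Algebra.subset_adjoin ⟨a ^ n + b, Set.mem_insert _ _, by simp⟩))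
  · intro hz
    obtain ⟨j, hj⟩ := hne
    exact hj (by simpa using congrArg (fun q : K[X] => q.coeff j) hz)
  · obtain ⟨q, hq, hqE, hj⟩ := hcoef j
    refine ⟨q.map ψ.toRingHom, fun k => ?_, natDegree_map_le.trans hqE, ?_⟩
    · rw [coeff_map]; exact hTL _ (hq k)
    · rw [coeff_map, hj, eval_map, ← eval₂_id, hom_eval₂]; rfl
  · rw [eval_map]
    exact (eval₂_at_apply ψ.toRingHom b).trans h0

/-- Elements of `R[T, a]` are polynomials in `a` over `R[T]`. -/
theorem exists_poly (T : Set S) (a c : S) (hc : c ∈ Algebra.adjoin R (insert a T)) :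
    ∃ q : S[X], (∀ k, q.coeff k ∈ Algebra.adjoin R T) ∧ c = q.eval a := by
  rw [Set.insert_eq, Set.union_comm, Algebra.adjoin_union_eq_adjoin_adjoin,
    Subalgebra.mem_restrictScalars, Algebra.adjoin_singleton_eq_range_aeval] at hc
  obtain ⟨q, rfl⟩ := hc
  refine ⟨q.map (algebraMap _ S), fun k => ?_, ?_⟩
  · rw [coeff_map]; exact (q.coeff k).2
  · exact (eval_map_algebraMap q a).symm

/-- Stability of the spanning under the power perturbation. -/
theorem eventually_spanned (G : Finset S) (d : ℕ) (a b : S)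
    (hG : Algebra.adjoin R (G : Set S) = ⊤)
    (H : ∀ (K : Type u) [Field K] [Algebra R K] (ψ : S →ₐ[R] K), Spanned G d a ψ) :
    ∃ n₀ : ℕ, ∀ n ≥ n₀, ∀ (K : Type u) [Field K] [Algebra R K] (ψ : S →ₐ[R] K),
      Spanned G d (a ^ n + b) ψ := by
  classical
  by_contra hcon
  push Not at hcon
  choose N hN K fK aK ψ hbad using hcon
  let U := Filter.hyperfilter ℕ
  let q : Ideal (∀ i, K i) :=
    { carrier := {x | ∀ᶠ i in (U : Filter ℕ), x i = 0}
      add_mem' := fun {x y} hx hy => by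
        filter_upwards [hx, hy] with i h1 h2
        rw [Pi.add_apply, h1, h2, add_zero]
      zero_mem' := Filter.Eventually.of_forall fun i => rfl
      smul_mem' := fun r x hx => by
        filter_upwards [hx] with i h1
        rw [smul_eq_mul, Pi.mul_apply, h1, mul_zero] }
  haveI : q.IsPrime := by
    refine ⟨fun htop => ?_, fun {x y} hxy => ?_⟩
    · have h1 : (1 : ∀ i, K i) ∈ q := htop ▸ trivial
      obtain ⟨i, hi⟩ := (h1 : ∀ᶠ i in (U : Filter ℕ), (1 : ∀ i, K i) i = 0).exists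
      exact one_ne_zero hi
    · refine Ultrafilter.eventually_or.1 ?_
      filter_upwards [(hxy : ∀ᶠ i in (U : Filter ℕ), (x * y) i = 0)] with i hi
      exact mul_eq_zero.1 hi
  let F := FractionRing ((∀ i, K i) ⧸ q)
  let Ψ : S →ₐ[R] ∀ i, K i := AlgHom.pi ψ
  let φ : S →ₐ[R] F :=
    (IsScalarTower.toAlgHom R ((∀ i, K i) ⧸ q) F).comp ((Ideal.Quotient.mkₐ R q).comp Ψ)
  have hφ : ∀ s, φ s = 0 ↔ ∀ᶠ i in (U : Filter ℕ), ψ i s = 0 := fun s => by
    show algebraMap _ F (Ideal.Quotient.mk q (Ψ s)) = 0 ↔ _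
    rw [map_eq_zero_iff _ (IsFractionRing.injective _ F), Ideal.Quotient.eq_zero_iff_mem]
    rfl
  obtain ⟨T, hT, hgen⟩ := H F φ
  have hev : ∀ g : S, IsAlgebraic (Algebra.adjoin R (φ '' insert a (T : Set S))) (φ g) →
      ∃ p : S[X], (∀ j, p.coeff j ∈ Algebra.adjoin R (insert a (T : Set S))) ∧
        ∀ᶠ i in (U : Filter ℕ), (∃ j, ψ i (p.coeff j) ≠ 0) ∧ ψ i (p.eval g) = 0 := by
    intro g hg
    obtain ⟨p, hp, ⟨j, hj⟩, h0⟩ := exists_witness φ _ g hg
    refine ⟨p, hp, ?_⟩
    filter_upwards [Ultrafilter.eventually_not.2 fun h => hj ((hφ _).2 h), (hφ _).1 h0] with i h1 h2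
    exact ⟨⟨j, h1⟩, h2⟩
  have hb : IsAlgebraic (Algebra.adjoin R (φ '' insert a (T : Set S))) (φ b) := by
    suffices hall : ∀ z ∈ Algebra.adjoin R (G : Set S),
        IsAlgebraic (Algebra.adjoin R (φ '' insert a (T : Set S))) (φ z) from
      hall b (hG ▸ Algebra.mem_top)
    intro z hz
    induction hz using Algebra.adjoin_induction with
    | mem g hg => exact hgen g hg
    | algebraMap r =>
      rw [AlgHom.commutes]
      exact isAlgebraic_algebraMap (⟨_, Subalgebra.algebraMap_mem _ r⟩ :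
        Algebra.adjoin R (φ '' insert a (T : Set S)))
    | add x y _ _ hx hy => rw [map_add]; exact hx.add hy
    | mul x y _ _ hx hy => rw [map_mul]; exact hx.mul hy
  obtain ⟨pb, hpb, hpbev⟩ := hev b hb
  choose Q hQ hQa using fun j => exists_poly (T : Set S) a _ (hpb j)
  let E := (Finset.range (pb.natDegree + 1)).sup fun j => (Q j).natDegree
  choose P hP hPev using fun g : G => hev g.1 (hgen g.1 g.2)
  have hlarge : ∀ᶠ i in (U : Filter ℕ), E + 1 ≤ i :=
    Filter.Eventually.filter_mono Filter.hyperfilter_le_cofinite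
      (Nat.cofinite_eq_atTop ▸ Filter.eventually_ge_atTop (E + 1))
  obtain ⟨i, hi, ⟨hne, h0⟩, hGi⟩ := (hlarge.and (hpbev.and (Filter.eventually_all.2 hPev))).exists
  refine hbad i (spanned_step (ψ i) G a b T hT
    (fun g hg => isAlgebraic_of_witness (ψ i) _ g (P ⟨g, hg⟩) (hP _) (hGi ⟨g, hg⟩).1 (hGi ⟨g, hg⟩).2) pb hne h0
    (lt_of_lt_of_le hi (hN i)) fun j => ?_)
  by_cases hj : j ≤ pb.natDegree
  · exact ⟨Q j, hQ j, Finset.le_sup (f := fun j => (Q j).natDegree)
      (Finset.mem_range.2 (Nat.lt_succ_of_le hj)), hQa j⟩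
  · refine ⟨0, fun k => ?_, by simp, ?_⟩
    · rw [coeff_zero]; exact zero_mem _
    · rw [coeff_eq_zero_of_natDegree_lt (not_le.1 hj), eval_zero]

end Groth.Agent.H69.PowPert
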