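import Mathlib.RingTheory.Valuation.LocalSubring
import Mathlib.RingTheory.Algebraic.Integral
import Mathlib.Algebra.Polynomial.Eval.Degree

/-!
# Sums `α ^ n + β` with `β` algebraic over `L(α)`
-/

set_option autoImplicit false

universe u

open Polynomial

namespace Groth.Agent.H69.PowPert

variable {K : Type u} [Field K]

/-- An element algebraic over a subring stays so over a bigger one. -/
theorem isAlgebraic_mono {σ τ : Type*} [SetLike σ K] [SubringClass σ K] [SetLike τ K]
    [SubringClass τ K] {A : σ} {B : τ} (h : ∀ x ∈ A, x ∈ B) {z : K} (hz : IsAlgebraic A z) :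
    IsAlgebraic B z := by
  obtain ⟨p, hp, hpz⟩ := hz
  let ι : A →+* B := (SubringClass.subtype A).codRestrict B fun x => h x x.2
  have hι : Function.Injective ι := fun x y hxy =>
    Subtype.ext (congrArg (fun w : B => (w : K)) hxy :)
  refine ⟨p.map ι, (Polynomial.map_ne_zero_iff hι).2 hp, ?_⟩
  rw [aeval_def, eval₂_map]
  exact hpz

variable (V : ValuationSubring K) {L : Subfield K}

theorem valuation_eq_one (hL : L.toSubring ≤ V.toSubring) {x : K} (hx : x ∈ L) (h0 : x ≠ 0) :
    V.valuation x = 1 := by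
  refine le_antisymm ((V.valuation_le_one_iff x).2 (hL hx)) ?_
  have h := (V.valuation_le_one_iff x⁻¹).2 (hL (L.inv_mem hx))
  rwa [map_inv₀, inv_le_one₀ (zero_lt_iff.2 ((_root_.map_ne_zero _).2 h0))] at h

/-- The value at `α` of a polynomial with coefficients in `L`. -/
theorem valuation_eval {p : K[X]} (hL : L.toSubring ≤ V.toSubring) (hp : ∀ k, p.coeff k ∈ L)
    {α : K} (hα : α ∉ V) (h0 : p ≠ 0) :
    V.valuation (p.eval α) = V.valuation α ^ p.natDegree := by
  have hα' : 1 < V.valuation α := lt_of_not_ge fun h => hα ((V.valuation_le_one_iff α).1 h)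
  have hlead : V.valuation p.leadingCoeff = 1 :=
    valuation_eq_one V hL (hp _) (leadingCoeff_ne_zero.2 h0)
  rw [eval_eq_sum_range, Finset.sum_range_succ,
    Valuation.map_add_eq_of_lt_right, map_mul, map_pow, coeff_natDegree, hlead, one_mul]
  rw [map_mul, map_pow, coeff_natDegree, hlead, one_mul]
  refine V.valuation.map_sum_lt (pow_ne_zero _ (zero_lt_one.trans hα').ne') fun k hk => ?_
  rw [map_mul, map_pow]
  calc V.valuation (p.coeff k) * V.valuation α ^ k ≤ 1 * V.valuation α ^ k :=
        mul_le_mul_left ((V.valuation_le_one_iff _).2 (hL (hp k))) _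
    _ = V.valuation α ^ k := one_mul _
    _ < V.valuation α ^ p.natDegree := pow_lt_pow_right₀ hα' (Finset.mem_range.1 hk)

/-- `α ^ n + β` is not in `L` for `n` above the degrees in `α` of an equation of `β`. -/
theorem not_mem_of_relation (hL : L.toSubring ≤ V.toSubring) {α β : K} (hα : α ∉ V) {n E : ℕ}
    (hn : E < n) (c : K[X]) (hc0 : c ≠ 0)
    (hc : ∀ j, ∃ p : K[X], (∀ k, p.coeff k ∈ L) ∧ p.natDegree ≤ E ∧ c.coeff j = p.eval α)
    (hβ : c.eval β = 0) : α ^ n + β ∉ L := by
  intro hy
  have hα' : 1 < V.valuation α := lt_of_not_ge fun h => hα ((V.valuation_le_one_iff α).1 h)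
  set va := V.valuation α
  have hn1 : 1 < va ^ n := one_lt_pow₀ hα' (by omega)
  have hvβ : V.valuation β = va ^ n := by
    have hyV : V.valuation (α ^ n + β) < va ^ n :=
      lt_of_le_of_lt ((V.valuation_le_one_iff _).2 (hL hy)) hn1
    rw [show β = -α ^ n + (α ^ n + β) by ring, Valuation.map_add_eq_of_lt_left, Valuation.map_neg,
      map_pow]
    rwa [Valuation.map_neg, map_pow]
  have hcoef : ∀ j, V.valuation (c.coeff j) ≤ va ^ E := by
    intro j
    obtain ⟨p, hp, hpE, hj⟩ := hc j
    rcases eq_or_ne p 0 with rfl | h0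
    · rw [hj, eval_zero, map_zero]; exact zero_le
    · rw [hj, valuation_eval V hL hp hα h0]
      exact pow_le_pow_right₀ hα'.le hpE
  have hlead : 1 ≤ V.valuation (c.coeff c.natDegree) := by
    obtain ⟨p, hp, -, hj⟩ := hc c.natDegree
    rcases eq_or_ne p 0 with rfl | h0
    · exact absurd (hj.trans eval_zero) (leadingCoeff_ne_zero.2 hc0)
    · rw [hj, valuation_eval V hL hp hα h0]
      exact one_le_pow₀ hα'.le
  have hpos : ∀ m : ℕ, 0 < va ^ m := fun m => zero_lt_one.trans_le (one_le_pow₀ hα'.le)
  have key : V.valuation (c.eval β) = V.valuation (c.coeff c.natDegree * β ^ c.natDegree) := by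
    rw [eval_eq_sum_range, Finset.sum_range_succ, Valuation.map_add_eq_of_lt_right]
    refine lt_of_lt_of_le (V.valuation.map_sum_lt ?_ fun k hk => ?_)
      (b := V.valuation (c.coeff c.natDegree * β ^ c.natDegree)) le_rfl
    · rw [map_mul, map_pow, hvβ]
      exact (mul_pos (zero_lt_one.trans_le hlead) (pow_pos (hpos n) _)).ne'
    · rw [map_mul, map_pow, hvβ, map_mul, map_pow, hvβ]
      calc V.valuation (c.coeff k) * (va ^ n) ^ k ≤ va ^ E * (va ^ n) ^ k :=
            mul_le_mul_left (hcoef k) _
        _ = va ^ (E + n * k) := by rw [pow_add, pow_mul]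
        _ < va ^ (n * c.natDegree) := by
            refine pow_lt_pow_right₀ hα' ?_
            have := Nat.mul_le_mul_left n (Finset.mem_range.1 hk : k + 1 ≤ c.natDegree)
            rw [Nat.succ_eq_add_one, mul_add, mul_one] at this
            omega
        _ = 1 * (va ^ n) ^ c.natDegree := by rw [one_mul, pow_mul]
        _ ≤ V.valuation (c.coeff c.natDegree) * (va ^ n) ^ c.natDegree :=
            mul_le_mul_left hlead _
  rw [hβ, map_zero, map_mul, map_pow, hvβ] at key
  exact (mul_pos (zero_lt_one.trans_le hlead) (pow_pos (hpos n) _)).ne key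

end Groth.Agent.H69.PowPert
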